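import Groth.Agent.AffCompl47.Compactify
import Groth.Agent.AmpleFam.Pullback

/-!
# A projective compactification of an affine variety with a section cutting out the boundary
-/

set_option autoImplicit false
set_option linter.style.haveILetI false

universe u

open CategoryTheory Limits AlgebraicGeometry TopologicalSpace Opposite

noncomputable section

namespace Groth.Agent.Goodman

/-- An affine scheme of finite type over a field is the locus of a section of an ample module on a
proper scheme. -/
theorem exists_compactification {k : Type u} [Field k] {U : Scheme.{u}} [IsAffine U]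
    (π : U ⟶ Spec (CommRingCat.of k)) [LocallyOfFiniteType π] :
    ∃ (Q : Scheme.{u}) (r : Q ⟶ Spec (CommRingCat.of k)) (j : U ⟶ Q) (_ : IsOpenImmersion j)
      (L : Q.Modules) (s : Coh.structureModule Q ⟶ CohB1.tensorPow L 1),
      IsProper r ∧ j ≫ r = π ∧ CohB1.IsAmple L ∧ CohB1.genLocus _ s = j.opensRange := by
  let φ : CommRingCat.of k ⟶ Γ(U, ⊤) := (Scheme.ΓSpecIso (CommRingCat.of k)).inv ≫ π.appTop
  have hφ : φ.hom.FiniteType := by
    rw [CommRingCat.hom_comp]
    refine RingHom.FiniteType.comp ((HasRingHomProperty.iff_of_isAffine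
      (P := @LocallyOfFiniteType)).1 inferInstance) ?_
    exact RingHom.FiniteType.of_surjective _ (Scheme.ΓSpecIso
      (CommRingCat.of k)).symm.commRingCatIsoToRingEquiv.surjective
  letI : Algebra k Γ(U, ⊤) := φ.hom.toAlgebra
  haveI : Algebra.FiniteType k Γ(U, ⊤) := hφ
  obtain ⟨N, g, hg⟩ := Algebra.FiniteType.iff_quotient_mvPolynomial''.mp ‹_›
  let g' : MvPolynomial (ULift.{u} (Fin N)) k →ₐ[k] Γ(U, ⊤) :=
    g.comp (MvPolynomial.renameEquiv k Equiv.ulift).toAlgHom
  have hg' : Function.Surjective g' := hg.comp (MvPolynomial.renameEquiv k Equiv.ulift).surjective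
  let i : U ⟶ 𝔸(ULift.{u} (Fin N); Spec (CommRingCat.of k)) :=
    U.isoSpec.hom ≫ Spec.map (CommRingCat.ofHom g'.toRingHom) ≫
      (AffineSpace.SpecIso (ULift.{u} (Fin N)) (CommRingCat.of k)).inv
  haveI : IsClosedImmersion (Spec.map (CommRingCat.ofHom g'.toRingHom)) :=
    IsClosedImmersion.spec_of_surjective _ hg'
  haveI : IsClosedImmersion i := by unfold i; infer_instance
  let c := WDivLib.projChart N k
  have hif : i ≫ c ≫ CohB1.ProjSpace.toSpec N k = π := by
    rw [WDivLib.projChart_over]
    have h1 : CommRingCat.ofHom (MvPolynomial.C : k →+* MvPolynomial (ULift.{u} (Fin N)) k) ≫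
        CommRingCat.ofHom g'.toRingHom = φ :=
      CommRingCat.hom_ext (RingHom.ext fun r => g'.commutes r)
    unfold i
    rw [Category.assoc, Category.assoc, AffineSpace.SpecIso_inv_over, ← Spec.map_comp, h1]
    unfold φ
    rw [Spec.map_comp, Scheme.isoSpec_hom_naturality_assoc, ← Scheme.isoSpec_Spec_inv, Iso.hom_inv_id,
      Category.comp_id]
  haveI := ProjProper.Basic.isProper_toSpec N k
  haveI : LocallyOfFiniteType (CohB1.ProjSpace.toSpec N k) := inferInstance
  let f : U ⟶ CohB1.ProjSpace N k := i ≫ c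
  haveI : IsImmersion f := inferInstanceAs (IsImmersion (i ≫ c))
  haveI : IsLocallyNoetherian (CohB1.ProjSpace N k) :=
    LocallyOfFiniteType.isLocallyNoetherian (CohB1.ProjSpace.toSpec N k)
  haveI : QuasiCompact f := inferInstance
  haveI : IsSeparated f := inferInstance
  haveI : LocallyQuasiFinite f := inferInstance
  haveI : IsProper (f.imageι ≫ CohB1.ProjSpace.toSpec N k) := inferInstance
  haveI : IsOpenImmersion f.toImage := inferInstance
  let W : (CohB1.ProjSpace N k).Opens := c.opensRange
  let e : U ⟶ W := i ≫ c.isoOpensRange.hom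
  have he : e ≫ W.ι = f.toImage ≫ f.imageι := by
    rw [f.toImage_imageι]
    simp [e, W, f]
  haveI : UniversallyClosed e := inferInstance
  have hpre := AffCompl47.preimage_eq_range f.toImage f.imageι W e he
  let L₀ : (CohB1.ProjSpace N k).Modules := Twist.twistProjSpace N k 1
  have hL₀ : CohB1.IsAmple L₀ := by
    haveI := Props.AmpleTwist.compactSpace N k
    exact Props.AmpleTwist.isAmple_twist (𝒜 := CohB1.polyGrading N k) (D := 1) Nat.one_pos
      (fun i : ULift.{u} (Fin (N + 1)) => Props.AmpleTwist.X_pow_mem N k 1 i.down)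
      (Props.AmpleTwist.iSup_basicOpen_X_pow N k Nat.one_pos)
  obtain ⟨s₀, hs₀⟩ := Props.AmpleTwist.exists_section (𝒜 := CohB1.polyGrading N k) (D := 1)
    (fun i : ULift.{u} (Fin (N + 1)) => Props.AmpleTwist.X_pow_mem N k 1 i.down)
    (Props.AmpleTwist.iSup_basicOpen_X_pow N k Nat.one_pos) (WDivLib.X0_mem N k)
  obtain ⟨s, hs, -⟩ := Props.GenPull.exists_pull f.imageι (L := L₀) hL₀.1 (K := 1) s₀
  refine ⟨f.image, f.imageι ≫ CohB1.ProjSpace.toSpec N k, f.toImage, inferInstance, _, s,
    inferInstance, ?_, AmpleLib.isAmple_pullback_of_qaMor f.imageι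
      (AmpleFam.Pullback.qaMor_of_isAffineHom _) hL₀, Opens.ext ?_⟩
  · rw [f.toImage_imageι_assoc]; exact (Category.assoc _ _ _).trans hif
  · rw [hs, Scheme.Hom.coe_opensRange]
    refine Eq.trans ?_ hpre
    ext x
    show f.imageι.base x ∈ CohB1.genLocus _ s₀ ↔ f.imageι.base x ∈ W
    rw [hs₀]
    generalize f.imageι.base x = y
    exact (WDivLib.mem_range_projChart_iff N k y).symm

end Groth.Agent.Goodman

end
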