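import Groth.Agent.AffCompl47.Compactify
import Groth.Agent.CartDiv.Difference
import Groth.Agent.ZeroSchemeLib.Basic
import Groth.Agent.PicLaw.Basic
import Groth.Agent.AmpleLib.CompLemma
import Groth.Agent.AmpleFam.Pullback
import Groth.Agent.IdealSh.IdealMod
import Groth.Agent.IdealSh.EffCartier
import Groth.Agent.Omega.Stalks

/-!
# Twisting the unit section of an effective Cartier ideal, and the divisor of a section
-/

set_option autoImplicit false
set_option linter.style.haveILetI false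

universe u

open CategoryTheory CategoryTheory.Limits AlgebraicGeometry TopologicalSpace Opposite
open Groth.Agent.QCoh Groth.Agent.Props.GenLocus Groth.Agent.Props.GenTensor

noncomputable section

namespace Groth.Agent.Goodman

variable {X : Scheme.{u}}

/-- Off its support an effective Cartier ideal has a generating section. -/
theorem exists_gen_disjoint (D : X.IdealSheafData) (hD : BlowUp.IsEffCartierIdeal D) (U : X.Opens)
    (hU : Disjoint (U : Set X) (D.support : Set X)) :
    ∃ σ : Γ(ClSub.idealMod D, U), AmpleLib.locus σ = U := by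
  have hbot : D.subschemeι ⁻¹ᵁ U = ⊥ := by
    refine Opens.ext (Set.eq_empty_of_forall_notMem fun z hz => ?_)
    exact Set.disjoint_left.mp hU hz (D.range_subschemeι.le ⟨z, rfl⟩)
  haveI : Subsingleton Γ(D.subscheme, D.subschemeι ⁻¹ᵁ U) := by
    rw [hbot]; exact CommRingCat.subsingleton_of_isTerminal D.subscheme.sheaf.isTerminalOfEmpty
  obtain ⟨σ, hσ⟩ := IdealSh.IdealMod.exists_sect D U 1 (Subsingleton.elim _ _)
  refine ⟨σ, le_antisymm (AmpleLib.locus_le σ) fun x hx => ?_⟩
  obtain ⟨W, hxW, hWU, f, hf, hDW⟩ := IdealSh.EffCartier.exists_equation hD x U hx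
  obtain ⟨e, hfr, he⟩ := IdealSh.IdealMod.exists_isFrame_of_equation D hf hDW
  have hgen : IsGen (ClSub.idealMod D) W.1 (e 0) := by
    refine (isGen_iff_isFrame (e 0)).mpr ?_
    rw [show (fun _ : Fin 1 => e 0) = e from funext fun i => by rw [Subsingleton.elim i 0]]
    exact hfr
  obtain ⟨g, hg, -⟩ := hgen.exists_eq le_rfl (res _ hWU σ)
  rw [res_self] at hg
  have h1 := congrArg (OmegaSh.idealSect D W.1) hg
  rw [Omega.Stalks.idealSect_smul, show OmegaSh.idealSect D W.1 (res _ hWU σ) =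
    rres hWU (OmegaSh.idealSect D U σ) from Omega.Stalks.idealSect_map D _ _, hσ, map_one, he] at h1
  refine AmpleLib.le_locus hWU ?_ hxW
  rw [hg]
  exact hgen.smul_unit (IsUnit.of_mul_eq_one f h1.symm)

/-- High twists of a section over the locus of a section of the twisting module extend. -/
theorem exists_twist_locus [CompactSpace X] [QuasiSeparatedSpace X] {L : X.Modules}
    (hL : PicF.IsInvertible L) {P : X.Modules} (hP : PicF.IsInvertible P)
    (s : Coh.structureModule X ⟶ CohB1.tensorPow P 1) {U : X.Opens}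
    (hU : U = CohB1.genLocus _ s) {e : Γ(P, U)} (he : IsGen P U e) (σ : Γ(L, U)) :
    ∃ N₀ : ℕ, ∀ N, N₀ ≤ N → ∃ τ : Γ(CohB1.tensorMod L (CohB1.tensorPow P (N + 1)), (⊤ : X.Opens)),
      AmpleLib.locus τ = AmpleLib.locus σ := by
  open Groth.Agent.Props.GenProd Groth.Agent.AmpleLib in
  obtain ⟨N₀, hN₀⟩ := AmpleLib.exists_twist (PerfTri.Betti.isQuasicoherent_of_isFinLocFree
    (AmpleFam.Resolution.isFinLocFree_of_isInvertible hL)) hP s hU he σ 0
  refine ⟨N₀, fun N hN => ?_⟩
  have h := hN₀ N hN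
  rw [show 0 + 1 * N = N by omega] at h
  obtain ⟨ρ, hρ⟩ := h
  obtain ⟨φ⟩ := exists_iso_tensor_pow_add hL hP N 1
  refine ⟨φ.hom.app ⊤ (tmul ρ (sec s ⊤)), ?_⟩
  have hPK := AmpleLib.isInvertible_tensorPow hP N
  rw [locus_app_iso, locus_tmul (AmpleLib.isInvertible_tensorMod hL hPK) (AmpleLib.isInvertible_tensorPow hP 1),
    ← genLocus_eq_locus, ← hU]
  have h1 := congrArg locus hρ
  rw [locus_res, tmul_smul_left, locus_smul (AmpleLib.isInvertible_tensorMod hL hPK), locus_tmul hL hPK] at h1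
  have hUle : U ≤ locus (pw P e N) :=
    le_locus le_rfl (by rw [res_self]; exact isGen_pw he N)
  have hcU : U ≤ X.basicOpen (co 1 (sec s ⊤) le_top he ^ N) := by
    intro y hy
    rcases Nat.eq_zero_or_pos N with h0 | h0
    · rw [h0, pow_zero, Scheme.basicOpen_of_isUnit _ isUnit_one]; exact hy
    · rw [Scheme.basicOpen_pow _ _ h0, ← genLocus_inf_eq he s, ← hU, inf_idem]; exact hy
  rw [h1]
  refine le_antisymm (fun y hy => ?_) (fun y hy => ?_)
  · exact hy.2.1
  · exact ⟨hcU (locus_le σ hy), hy, hUle (locus_le σ hy)⟩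

/-- The zero divisor of a regular section. -/
theorem exists_divisor_eq_compl {L : X.Modules} (hL : PicF.IsInvertible L)
    (s : Coh.structureModule X ⟶ L) [∀ x : X, IsDomain (X.presheaf.stalk x)]
    (hs : ∀ x : X, ∃ z : X, z ⤳ x ∧ z ∈ CohB1.genLocus L s) :
    ∃ D : X.IdealSheafData, BlowUp.IsEffCartierIdeal D ∧
      (D.support : Set X) = ((CohB1.genLocus L s : X.Opens) : Set X)ᶜ ∧ ClSub.IsInverseOf L (ClSub.idealMod D) := by
  let D := PicF2.zeroScheme L s
  have hregr : ∀ (V : X.Opens) (U : X.Opens) (h : V ≤ U) (e : Γ(L, U)), IsGen L U e → ∀ f : Γ(X, U),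
      sec s U = f • e → rres h f ∈ nonZeroDivisors Γ(X, V) := by
    intro V U h e he f hf
    refine IdealSh.Regular.mem_nonZeroDivisors_of_germ fun x hx => mem_nonZeroDivisors_of_ne_zero fun h0 => ?_
    rw [show X.presheaf.germ V x hx (rres h f) = X.presheaf.germ U x (h hx) f from
      X.presheaf.germ_res_apply _ x hx f] at h0
    obtain ⟨z, hzx, hz⟩ := hs x
    have hzU : z ∈ U := hzx.mem_open U.isOpen (h hx)
    have hzb : z ∈ X.basicOpen f := by rw [← genLocus_inf he s hf]; exact ⟨hz, hzU⟩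
    have hu := (Scheme.mem_basicOpen _ _ z hzU).mp hzb
    have h2 := congrArg (X.presheaf.stalkSpecializes hzx) h0
    rw [TopCat.Presheaf.germ_stalkSpecializes_apply, map_zero] at h2
    rw [h2] at hu
    exact not_isUnit_zero hu
  have loc : ∀ x : X, ∃ (U : X.affineOpens) (e : Γ(L, U.1)) (f : Γ(X, U.1)) (σ : Γ(ClSub.idealMod D, U.1)),
      x ∈ U.1 ∧ IsGen L U.1 e ∧ sec s U.1 = f • e ∧ IsGen (ClSub.idealMod D) U.1 σ ∧
      OmegaSh.idealSect D U.1 σ = f ∧ f ∈ nonZeroDivisors Γ(X, U.1) ∧ D.ideal U = Ideal.span {f} := by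
    intro x
    obtain ⟨W, e0, hxW, he0⟩ := exists_isGen hL x
    obtain ⟨U, hU, hxU, hle⟩ := exists_isAffineOpen_mem_and_subset (show x ∈ W from hxW)
    have he := he0.restrict hle
    obtain ⟨f, hf, -⟩ := he.exists_eq (le_refl U) (sec s U)
    rw [res_self] at hf
    have hid := ZeroSchemeLib.zeroScheme_ideal_eq_span hL s ⟨U, hU⟩ he (f := f) hf
    have hnz : f ∈ nonZeroDivisors Γ(X, U) := by
      have := hregr U U le_rfl _ he f hf
      rwa [show rres (le_refl U) f = f from by simp [rres]] at this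
    obtain ⟨σ, hσ, hσf⟩ := CartDiv.Difference.exists_isGen_ideal D (U := ⟨U, hU⟩) hnz hid
    exact ⟨⟨U, hU⟩, _, f, σ, hxU, he, hf, hσ, hσf, hnz, hid⟩
  choose U e f σ hxU he hf hσ hσf hnz hid using loc
  have hD : BlowUp.IsEffCartierIdeal D := fun x => ⟨U x, hxU x, f x, hnz x, hid x⟩
  refine ⟨D, hD, AffCompl47.support_zeroScheme hL s, ?_⟩
  refine PicLaw.nonempty_iso_of_transition (fun x => (U x).1) (fun x => ⟨x, hxU x⟩)
    (fun x => tmul (e x) (σ x)) (fun x => isGen_tmul (he x) (hσ x))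
    (fun x => one' (U x).1) (fun x => isGen_one _) ?_
  intro i j V hi hj
  obtain ⟨c, hc, -⟩ := (he i).exists_eq hi (res L hj (e j))
  obtain ⟨d, hd, -⟩ := (hσ i).exists_eq hi (res (ClSub.idealMod D) hj (σ j))
  have h1 : rres hi (f i) = rres hj (f j) * c := by
    refine (he i).injective hi ?_
    rw [← res_smul, ← hf i, sec_res, ← sec_res s hj, hf j, res_smul, hc, smul_smul]
  have h2 : rres hj (f j) = d * rres hi (f i) := by
    have h := congrArg (OmegaSh.idealSect D V) hd
    rw [Omega.Stalks.idealSect_smul] at h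
    rw [show OmegaSh.idealSect D V (res (ClSub.idealMod D) hj (σ j)) =
        rres hj (OmegaSh.idealSect D (U j).1 (σ j)) from Omega.Stalks.idealSect_map D _ _,
      show OmegaSh.idealSect D V (res (ClSub.idealMod D) hi (σ i)) =
        rres hi (OmegaSh.idealSect D (U i).1 (σ i)) from Omega.Stalks.idealSect_map D _ _, hσf, hσf] at h
    exact h
  have hcd : c * d = 1 := by
    have hn := hregr V (U i).1 hi _ (he i) (f i) (hf i)
    refine ((mul_cancel_right_mem_nonZeroDivisors hn).mp ?_)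
    rw [one_mul]
    calc c * d * rres hi (f i) = rres hj (f j) * c := by rw [h2]; ring
      _ = _ := h1.symm
  refine ⟨1, ?_, ?_⟩
  · rw [res_tmul, res_tmul, hc, hd, tmul_smul_left, tmul_smul_right, smul_smul, hcd]
  · rw [one_smul, PicLaw.res_one', PicLaw.res_one']


end Groth.Agent.Goodman

end
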